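import Cfsg.Prelude.Def_Classification2
import Cfsg.Prelude.Def_LieTypeChar

/-!
`known_cases` : a known simple group is cyclic of prime order, alternating, of Lie type in some characteristic `r`
(in the sense of `IsLieTypeChar`), the Tits group, or sporadic.
-/

set_option autoImplicit false

namespace Cfsg.Agent.PreUniq

/-- The characteristic of a finite field. -/
theorem exists_charP (F : Type*) [Field F] [Finite F] : ∃ r : ℕ, r.Prime ∧ CharP F r := by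
  obtain ⟨p, hp⟩ := CharP.exists F
  exact ⟨p, CharP.char_is_prime F p, hp⟩

/-- **The known simple groups, the groups of Lie type collected in one case.** -/
theorem known_cases {G : Type*} [Group G] (h : IsKnownSimple' G) :
    IsPrimeCyclic G ∨ IsAlternating G ∨ (∃ r : ℕ, r.Prime ∧ IsLieTypeChar r G) ∨ Lie.IsoTits G ∨
      IsSporadicGroup G := by
  rcases h with h | h | h | h | h | h | h | h | h | h
  · exact Or.inl h
  · exact Or.inr (Or.inl h)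
  · obtain ⟨F, _, _, n, h1, h2, h3⟩ := h
    obtain ⟨r, hr, hc⟩ := exists_charP F
    exact Or.inr (Or.inr (Or.inl ⟨r, hr, Or.inl ⟨F, _, _, hc, n, h1, h2, h3⟩⟩))
  · obtain ⟨F, _, _, m, h1, h2, h3⟩ := h
    obtain ⟨r, hr, hc⟩ := exists_charP F
    exact Or.inr (Or.inr (Or.inl ⟨r, hr, Or.inr (Or.inl ⟨F, _, _, hc, m, h1, h2, h3⟩)⟩))
  · obtain ⟨F, _, _, n, q, h1, h2, h3, h4⟩ := h
    obtain ⟨r, hr, hc⟩ := exists_charP F
    exact Or.inr (Or.inr (Or.inl ⟨r, hr, Or.inr (Or.inr (Or.inl ⟨F, _, _, hc, n, q, h1, h2, h3, h4⟩))⟩))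
  · obtain ⟨F, _, _, m, h1, h2, h3⟩ := h
    obtain ⟨r, hr, hc⟩ := exists_charP F
    exact Or.inr (Or.inr (Or.inl ⟨r, hr, Or.inr (Or.inr (Or.inr (Or.inl ⟨F, _, _, hc, m, h1, h2, h3⟩)))⟩))
  · obtain ⟨F, _, i, m, h1, h2⟩ := h
    obtain ⟨r, hr, hc⟩ := exists_charP F
    exact Or.inr (Or.inr (Or.inl ⟨r, hr, Or.inr (Or.inr (Or.inr (Or.inr (Or.inl ⟨F, _, i, hc, m, h1, h2⟩))))⟩))
  · obtain ⟨F, _, i, m, a, b, h1, h2, h3⟩ := h
    obtain ⟨r, hr, hc⟩ := exists_charP F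
    exact Or.inr (Or.inr (Or.inl ⟨r, hr, Or.inr (Or.inr (Or.inr (Or.inr (Or.inr (Or.inl
      ⟨F, _, i, hc, m, a, b, h1, h2, h3⟩)))))⟩))
  · rcases h with h | h | h | h | h | h | h | h | h | h | h
    · obtain ⟨F, _, _, h1, h2⟩ := h
      obtain ⟨r, hr, hc⟩ := exists_charP F
      refine Or.inr (Or.inr (Or.inl ⟨r, hr, ?_⟩))
      unfold IsLieTypeChar IsExceptionalChevChar
      exact Or.inr (Or.inr (Or.inr (Or.inr (Or.inr (Or.inr (Or.inl ⟨F, _, _, hc, Or.inl ⟨h1, h2⟩⟩))))))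
    · obtain ⟨F, _, i, h1⟩ := h
      obtain ⟨r, hr, hc⟩ := exists_charP F
      refine Or.inr (Or.inr (Or.inl ⟨r, hr, ?_⟩))
      unfold IsLieTypeChar IsExceptionalChevChar
      exact Or.inr (Or.inr (Or.inr (Or.inr (Or.inr (Or.inr (Or.inl ⟨F, _, i, hc, Or.inr (Or.inl h1)⟩))))))
    · obtain ⟨F, _, i, h1⟩ := h
      obtain ⟨r, hr, hc⟩ := exists_charP F
      refine Or.inr (Or.inr (Or.inl ⟨r, hr, ?_⟩))
      unfold IsLieTypeChar IsExceptionalChevChar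
      exact Or.inr (Or.inr (Or.inr (Or.inr (Or.inr (Or.inr (Or.inl ⟨F, _, i, hc, Or.inr (Or.inr (Or.inl h1))⟩))))))
    · obtain ⟨F, _, i, h1⟩ := h
      obtain ⟨r, hr, hc⟩ := exists_charP F
      refine Or.inr (Or.inr (Or.inl ⟨r, hr, ?_⟩))
      unfold IsLieTypeChar IsExceptionalChevChar
      exact Or.inr (Or.inr (Or.inr (Or.inr (Or.inr (Or.inr (Or.inl
        ⟨F, _, i, hc, Or.inr (Or.inr (Or.inr (Or.inl h1)))⟩))))))
    · obtain ⟨F, _, i, h1⟩ := h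
      obtain ⟨r, hr, hc⟩ := exists_charP F
      refine Or.inr (Or.inr (Or.inl ⟨r, hr, ?_⟩))
      unfold IsLieTypeChar IsExceptionalChevChar
      exact Or.inr (Or.inr (Or.inr (Or.inr (Or.inr (Or.inr (Or.inl
        ⟨F, _, i, hc, Or.inr (Or.inr (Or.inr (Or.inr h1)))⟩))))))
    · obtain ⟨K, _, _, q, h1, h2, h3⟩ := h
      obtain ⟨r, hr, hc⟩ := exists_charP K
      refine Or.inr (Or.inr (Or.inl ⟨r, hr, ?_⟩))
      unfold IsLieTypeChar IsTwistedE6D4Char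
      exact Or.inr (Or.inr (Or.inr (Or.inr (Or.inr (Or.inr (Or.inr (Or.inl
        ⟨K, _, _, hc, q, h1, Or.inl ⟨h2, h3⟩⟩)))))))
    · obtain ⟨K, _, _, q, h1, h2, h3⟩ := h
      obtain ⟨r, hr, hc⟩ := exists_charP K
      refine Or.inr (Or.inr (Or.inl ⟨r, hr, ?_⟩))
      unfold IsLieTypeChar IsTwistedE6D4Char
      exact Or.inr (Or.inr (Or.inr (Or.inr (Or.inr (Or.inr (Or.inr (Or.inl
        ⟨K, _, _, hc, q, h1, Or.inr ⟨h2, h3⟩⟩)))))))
    · refine Or.inr (Or.inr (Or.inl ⟨2, Nat.prime_two, ?_⟩))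
      unfold IsLieTypeChar
      exact Or.inr (Or.inr (Or.inr (Or.inr (Or.inr (Or.inr (Or.inr (Or.inr (Or.inl ⟨rfl, h⟩))))))))
    · refine Or.inr (Or.inr (Or.inl ⟨3, Nat.prime_three, ?_⟩))
      unfold IsLieTypeChar
      exact Or.inr (Or.inr (Or.inr (Or.inr (Or.inr (Or.inr (Or.inr (Or.inr (Or.inr (Or.inr ⟨rfl, h⟩)))))))))
    · refine Or.inr (Or.inr (Or.inl ⟨2, Nat.prime_two, ?_⟩))
      unfold IsLieTypeChar
      exact Or.inr (Or.inr (Or.inr (Or.inr (Or.inr (Or.inr (Or.inr (Or.inr (Or.inr (Or.inl ⟨rfl, h⟩)))))))))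
    · exact Or.inr (Or.inr (Or.inr (Or.inl h)))
  · exact Or.inr (Or.inr (Or.inr (Or.inr h)))

end Cfsg.Agent.PreUniq
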