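import Cfsg.Agent.PreUniq.BnRP
import Cfsg.Agent.FixBN.Gates
import Cfsg.Agent.PreUniq.RPBase

/-!
# Normal `p'`-subgroups of a group with a gate system on its Sylow `p`-subgroups, `p` odd (helper83)

`isSolvable_of_gsys` : `H` finite, `GSys Pa d` a gate system (`FixBN.Gates`) on the Sylow `p`-subgroups of `H`, `p` odd,
the normaliser of a Sylow `p`-subgroup solvable. Then every normal subgroup of `H` of order prime to `p` is solvable.
-/

set_option autoImplicit false
set_option linter.unusedSectionVars false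

open scoped Pointwise

namespace Cfsg.Agent.PreUniq.GatesRP

open Cfsg.Agent.FixBN.Gates Cfsg.Agent.Lib

variable {H : Type*} [Group H] [Finite H] {p : ℕ} [hp : Fact p.Prime] {X : Subgroup H} [hX : X.Normal]
  {Pa : Set (Set (Sylow p H))} {d : Sylow p H → Sylow p H → ℕ}

include hX

/-- an element of `X` centralises the intersection of a Sylow subgroup with its conjugate -/
theorem comm_of_mem (h : ¬ p ∣ Nat.card X) {a : Sylow p H} {c k : H}
    (hc : c ∈ X) (hk : k ∈ a) (hk' : k ∈ (c • a : Sylow p H)) : c * k = k * c := by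
  have h1 : c * k * c⁻¹ * k⁻¹ ∈ (c • a : Sylow p H) := by
    refine mul_mem ?_ (inv_mem hk')
    rw [mem_smul_iff]
    have e : c⁻¹ * (c * k * c⁻¹) * c = k := by group
    rw [e]
    exact hk
  have h3 : c * k * c⁻¹ * k⁻¹ ∈ X := by
    have e : c * k * c⁻¹ * k⁻¹ = c * (k * c⁻¹ * k⁻¹) := by group
    rw [e]
    exact mul_mem hc (hX.conj_mem _ (inv_mem hc) k)
  have h4 : c * k * c⁻¹ * k⁻¹ ∈ X ⊓ ((c • a : Sylow p H) : Subgroup H) := ⟨h3, h1⟩
  rw [BnRP.inf_eq_bot h (c • a : Sylow p H).isPGroup', Subgroup.mem_bot] at h4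
  rw [mul_inv_eq_one, mul_inv_eq_iff_eq_mul] at h4
  exact h4

theorem stab (hG : GSys Pa d) (h : ¬ p ∣ Nat.card X) {S : Set (Sylow p H)}
    (hS : S ∈ Pa) {a : Sylow p H} {c : H} (hc : c ∈ X) (ha : a ∈ S) (hca : c • a ∈ S) :
    c • S = S := by
  obtain ⟨K, hK⟩ := hG.ker S hS
  have hcomm : ∀ k ∈ K, c * k = k * c := fun k hk =>
    comm_of_mem h hc ((hK a).1 ha hk) ((hK _).1 hca hk)
  have h1 : ∀ b ∈ S, c • b ∈ S := by
    intro b hb
    rw [hK] at hb ⊢
    intro k hk
    change k ∈ (c • b : Sylow p H)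
    rw [mem_smul_iff]
    have e : c⁻¹ * k * c = k := by
      rw [mul_assoc, ← hcomm k hk]; group
    rw [e]
    exact hb hk
  have h3 : ∀ b ∈ S, c⁻¹ • b ∈ S := by
    intro b hb
    rw [hK] at hb ⊢
    intro k hk
    change k ∈ (c⁻¹ • b : Sylow p H)
    rw [mem_smul_iff]
    have e : c⁻¹⁻¹ * k * c⁻¹ = k := by
      rw [inv_inv, hcomm k hk]; group
    rw [e]
    exact hb hk
  ext b
  constructor
  · rintro ⟨b', hb', rfl⟩
    exact h1 b' hb'
  · intro hb
    exact ⟨c⁻¹ • b, h3 b hb, smul_inv_smul c b⟩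

theorem star (hG : GSys Pa d) (h : ¬ p ∣ Nat.card X) {S : Set (Sylow p H)}
    (hS : S ∈ Pa) (hM : ¬ GSys.Mv X S) {a : Sylow p H} {c : H} (hc : c ∈ X) (hca : c • a ∈ S) :
    Gate a S (c • a) := by
  obtain ⟨c1, hc1, hg⟩ := hG.gate S hS a
  by_cases hne : c1 = c • a
  · rw [← hne]; exact hg
  exfalso
  obtain ⟨e, he, he1, he2⟩ := hG.three S hS c1 hc1 _ hca
  obtain ⟨u, hu, huS, hue⟩ := hg.tr _ hca e he (Ne.symm hne) he1
  have h1 : (u * c * u⁻¹ * c⁻¹) • (c • a) = e := by
    rw [← mul_smul]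
    have e1 : u * c * u⁻¹ * c⁻¹ * c = u * c * u⁻¹ := by group
    rw [e1, mul_smul, mul_smul, inv_smul_self hu, hue]
  have h3 : u * c * u⁻¹ * c⁻¹ ∈ X := mul_mem (hX.conj_mem c hc u) (inv_mem hc)
  refine hM ⟨_, h3, stab hG h hS h3 hca (by rw [h1]; exact he), _, hca, ?_⟩
  rw [h1]
  exact he2

/-- An element of `X` fixing a chamber fixes the adjacent chambers. -/
theorem fix_adj (hG : GSys Pa d) (h : ¬ p ∣ Nat.card X) {S : Set (Sylow p H)} (hS : S ∈ Pa) {a b : Sylow p H}
    (ha : a ∈ S) (hb : b ∈ S) {c : H} (hc : c ∈ X) (hca : c • a = a) : c • b = b := by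
  by_cases hba : b = a
  · rw [hba, hca]
  have hcS : c • S = S := stab hG h hS hc ha (by rw [hca]; exact ha)
  have hcb : c • b ∈ S := by rw [← hcS]; exact Set.smul_mem_smul_set hb
  have hcb' : c • b ≠ a := by
    intro h1
    rw [← hca] at h1
    exact hba (smul_left_cancel c h1)
  obtain ⟨u, hu, huS, hue⟩ := (hG.gate_self hS ha).tr b hb (c • b) hcb hba hcb'
  have hcomm : c * u⁻¹ = u⁻¹ * c := comm_of_mem h hc (inv_mem hu) (by rw [hca]; exact inv_mem hu)
  have h1 : u⁻¹ * c ∈ MulAction.stabilizer H b := by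
    rw [MulAction.mem_stabilizer_iff, mul_smul, ← hue, inv_smul_smul]
  obtain ⟨k, hk⟩ := a.isPGroup' ⟨u⁻¹, inv_mem hu⟩
  have h2 := BnRP.mem_of_mul_mem (H := MulAction.stabilizer H b) (show Commute u⁻¹ c from hcomm.symm)
    (a := p ^ k) (b := Nat.card X) (congrArg Subtype.val hk)
    (congrArg Subtype.val (pow_card_eq_one' (x := (⟨c, hc⟩ : X))))
    (Nat.Coprime.pow_left k ((Nat.Prime.coprime_iff_not_dvd hp.out).2 h)) h1
  exact h2

/-- An element of `X` fixing a chamber fixes all chambers. -/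
theorem fix_all (hG : GSys Pa d) (h : ¬ p ∣ Nat.card X) {a : Sylow p H} {c : H} (hc : c ∈ X) (hca : c • a = a)
    (b : Sylow p H) : c • b = b := by
  induction hn : d a b using Nat.strong_induction_on generalizing b with
  | _ n ih =>
    by_cases hab : a = b
    · rw [← hab, hca]
    obtain ⟨S, hS, hbS, c1, hc1, hg, hne, hlt⟩ := hG.desc a b hab
    exact fix_adj hG h hS hc1 hbS hc (ih _ (by rw [← hn]; exact hlt) c1 rfl)

/-- The chambers of a panel: `1 + p ^ m`. -/
theorem even_ncard (hG : GSys Pa d) (hp2 : p ≠ 2) {S : Set (Sylow p H)} (hS : S ∈ Pa) {a : Sylow p H}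
    (ha : a ∈ S) : 2 ∣ S.ncard := by
  obtain ⟨b, hb, hba, -⟩ := hG.three S hS a ha a ha
  have h1 : MulAction.orbit ↥(a : Subgroup H) b = S \ {a} := by
    ext e
    constructor
    · rintro ⟨⟨u, hu⟩, rfl⟩
      have huS := hG.self S hS a ha u hu
      refine ⟨?_, ?_⟩
      · change u • b ∈ S
        rw [← huS]; exact Set.smul_mem_smul_set hb
      · intro he
        have he' : u • b = a := he
        rw [← smul_self (a := a) hu] at he'
        exact hba (smul_left_cancel u he')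
    · rintro ⟨he, hea⟩
      obtain ⟨u, hu, _, hue⟩ := (hG.gate_self hS ha).tr b hb e he hba hea
      exact ⟨⟨u, hu⟩, hue⟩
  obtain ⟨m, hm⟩ := a.isPGroup'.card_orbit b
  rw [h1, Nat.card_coe_set_eq] at hm
  have h4 : (S \ {a}).ncard + 1 = S.ncard := Set.ncard_sdiff_singleton_add_one ha (Set.toFinite _)
  rw [← h4, hm]
  obtain ⟨k, hk⟩ := (hp.out.odd_of_ne_two hp2).pow (n := m)
  rw [hk]
  exact ⟨k + 1, by ring⟩

/-- **Normal `p'`-subgroups of a group with a gate system of odd characteristic `p` are solvable.** -/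
theorem isSolvable_of_gsys (hG : GSys Pa d) (hp2 : p ≠ 2) (h : ¬ p ∣ Nat.card X) (a : Sylow p H)
    (hN : Group.IsSolvable ↥(Subgroup.normalizer (a : Set H))) : Group.IsSolvable X := by
  have : Fact (Nat.Prime 2) := ⟨Nat.prime_two⟩
  set D : Subgroup H := X ⊓ Subgroup.normalizer (a : Set H) with hD
  have hmemD : ∀ c, c ∈ D ↔ c ∈ X ∧ c • a = a := fun c => by
    rw [hD, Subgroup.mem_inf, Sylow.smul_eq_iff_mem_normalizer]
  have hDn : D.Normal := by
    refine ⟨fun c hc g => ?_⟩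
    rw [hmemD] at hc ⊢
    refine ⟨hX.conj_mem _ hc.1 g, ?_⟩
    rw [mul_smul, mul_smul, fix_all hG h hc.1 hc.2, smul_inv_smul]
  have hinvX : ∀ b ∈ (a : Subgroup H), ∀ u ∈ X, b * u * b⁻¹ ∈ X := fun b _ u hu => hX.conj_mem _ hu b
  obtain ⟨T, hT, hTa⟩ := PGroupCoprimeAction.exists_invariant_sylow a.isPGroup' h hinvX 2
  have hTX : T ≤ X := by
    obtain ⟨T', rfl⟩ := hT
    exact Subgroup.map_subtype_le _
  have hT2 : IsPGroup 2 T := by
    obtain ⟨T', rfl⟩ := hT
    exact T'.2.map _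
  have hCD : X ⊓ Subgroup.centralizer ((a : Subgroup H) : Set H) ≤ D := fun c hc =>
    ⟨hc.1, Subgroup.centralizer_le_normalizer _ hc.2⟩
  -- every `a`-invariant 2-subgroup of `X` lies in `T D`
  have hA : ∀ A : Subgroup H, A ≤ X → IsPGroup 2 A → (∀ u ∈ (a : Subgroup H), ∀ x ∈ A, u * x * u⁻¹ ∈ A) →
      A ≤ T ⊔ D := by
    intro A hAV hA2 hAU
    obtain ⟨S', hS', hS'U, hAS'⟩ := PGroupCoprimeAction.exists_invariant_sylow_ge a.isPGroup' h hinvX hAV hA2 hAU
    obtain ⟨c, hc, hcS⟩ := PGroupCoprimeAction.exists_centralizer_conj a.isPGroup' h hinvX hT hS' hTa hS'U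
    have hcD := hCD hc
    refine hAS'.trans ?_
    rw [← hcS]
    rintro _ ⟨s, hs, rfl⟩
    exact (T ⊔ D).mul_mem ((T ⊔ D).mul_mem (Subgroup.mem_sup_right hcD) (Subgroup.mem_sup_left hs))
      ((T ⊔ D).inv_mem (Subgroup.mem_sup_right hcD))
  -- the moved panels through `a`
  have hpan : ∀ S ∈ Pa, a ∈ S → GSys.Mv X S → ∀ v ∈ X, v • S = S → v ∈ T ⊔ D := by
    intro S hS haS hM v hv hvS
    let XS : Subgroup H := X ⊓ MulAction.stabilizer H S
    have hXSn : ∀ b ∈ (a : Subgroup H), ∀ u ∈ XS, b * u * b⁻¹ ∈ XS := by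
      rintro b hb u ⟨hu, huS⟩
      refine ⟨hX.conj_mem _ hu b, ?_⟩
      have hbS : b • S = S := hG.self S hS a haS b hb
      have hbS' : b⁻¹ • S = S := by rw [inv_smul_eq_iff, hbS]
      have huS' : u • S = S := huS
      show (b * u * b⁻¹) • S = S
      rw [mul_smul, mul_smul, hbS', huS', hbS]
    have hXSc : ¬ p ∣ Nat.card XS := fun h1 => h (h1.trans (Subgroup.card_dvd_of_le inf_le_left))
    obtain ⟨A, ⟨A', hA'⟩, hAa⟩ := PGroupCoprimeAction.exists_invariant_sylow a.isPGroup' hXSc hXSn 2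
    have hAX : A ≤ XS := by
      rw [← hA']
      exact Subgroup.map_subtype_le _
    have hA2 : IsPGroup 2 A := by
      rw [← hA']
      exact A'.2.map _
    have hAD : ¬ A ≤ D := by
      intro hAD
      have h1 : ¬ 2 ∣ (A.subgroupOf XS).index := by
        have h2 : A.subgroupOf XS = (A' : Subgroup ↥XS) := by
          rw [← hA', Subgroup.subgroupOf, Subgroup.comap_map_eq_self_of_injective (Subgroup.subtype_injective _)]
        rw [h2]
        exact Sylow.not_dvd_index' A' (Subgroup.index_ne_zero_of_finite)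
      apply h1
      have h3 : D.relIndex XS ∣ A.relIndex XS := Subgroup.relIndex_dvd_of_le_left _ hAD
      refine dvd_trans ?_ h3
      have h4 : MulAction.orbit ↥XS a = S := by
        ext e
        constructor
        · rintro ⟨⟨u, hu, huS⟩, rfl⟩
          change u • a ∈ S
          have huS' : u • S = S := huS
          rw [← huS']; exact Set.smul_mem_smul_set haS
        · intro he
          obtain ⟨c, hc, hcS, hce⟩ := hM.tr hG hS haS he
          exact ⟨⟨c, hc, hcS⟩, hce⟩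
      have h5 : MulAction.stabilizer ↥XS a = D.subgroupOf XS := by
        ext ⟨u, hu⟩
        rw [MulAction.mem_stabilizer_iff, Subgroup.mem_subgroupOf, hmemD]
        exact ⟨fun h6 => ⟨hu.1, h6⟩, fun h6 => h6.2⟩
      have h6 : (MulAction.stabilizer ↥XS a).index = S.ncard := by
        rw [MulAction.index_stabilizer, h4]
      rw [h5] at h6
      show 2 ∣ (D.subgroupOf XS).index
      rw [h6]
      exact even_ncard (X := X) hG hp2 hS haS
    obtain ⟨y, hy, hyD⟩ := SetLike.not_le_iff_exists.1 hAD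
    have hyX : y ∈ X := (hAX hy).1
    have hyS : y • S = S := (hAX hy).2
    have hya : y • a ≠ a := fun h1 => hyD ((hmemD y).2 ⟨hyX, h1⟩)
    by_cases hva : v • a = a
    · exact Subgroup.mem_sup_right ((hmemD v).2 ⟨hv, hva⟩)
    have hyaS : y • a ∈ S := by rw [← hyS]; exact Set.smul_mem_smul_set haS
    have hvaS : v • a ∈ S := by rw [← hvS]; exact Set.smul_mem_smul_set haS
    obtain ⟨u, hu, huS, hue⟩ := (hG.gate_self hS haS).tr _ hyaS _ hvaS hya hva
    have h1 : u * y * u⁻¹ ∈ A := hAa u hu y hy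
    have h2 : (u * y * u⁻¹) • a = v • a := by
      rw [mul_smul, mul_smul, inv_smul_self hu, hue]
    have h3 : (u * y * u⁻¹)⁻¹ * v ∈ D := by
      rw [hmemD]
      refine ⟨X.mul_mem (X.inv_mem (hX.conj_mem _ hyX u)) hv, ?_⟩
      rw [mul_smul, ← h2, inv_smul_smul]
    have h4 : v = (u * y * u⁻¹) * ((u * y * u⁻¹)⁻¹ * v) := by group
    rw [h4]
    exact (T ⊔ D).mul_mem (hA A (hAX.trans inf_le_left) hA2 hAa h1) (Subgroup.mem_sup_right h3)
  -- `X ≤ T D`
  have hXT : ∀ x ∈ X, x ∈ T ⊔ D := by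
    intro x
    induction hn : d a (x • a) using Nat.strong_induction_on generalizing x with
    | _ n ih =>
      intro hx
      by_cases hxa : x • a = a
      · exact Subgroup.mem_sup_right ((hmemD x).2 ⟨hx, hxa⟩)
      obtain ⟨S, hS, hxS, c1, hc1, hg, hne, hlt⟩ := hG.desc a (x • a) (Ne.symm hxa)
      have hM : GSys.Mv X S := by
        by_contra hM
        have h1 := star hG h hS hM hx hxS
        exact hne (hG.gate_unique hS hg h1 hc1 hxS)
      obtain ⟨e, he, heS, hea⟩ := hM.tr hG hS hxS hc1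
      have h1 : e * x ∈ T ⊔ D := by
        refine ih (d a ((e * x) • a)) ?_ (e * x) rfl (mul_mem he hx)
        rw [mul_smul, hea, ← hn]
        exact hlt
      have heS' : (x⁻¹ * e * x) • (x⁻¹ • S) = x⁻¹ • S := by
        rw [← mul_smul]
        have e1 : x⁻¹ * e * x * x⁻¹ = x⁻¹ * e := by group
        rw [e1, mul_smul, heS]
      have haS : a ∈ x⁻¹ • S := by
        rw [Set.mem_smul_set_iff_inv_smul_mem, inv_inv]
        exact hxS
      have h3 : x⁻¹ * e * x ∈ T ⊔ D := by
        refine hpan (x⁻¹ • S) (hG.smul S hS _) haS (hM.smul x⁻¹) _ ?_ heS'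
        have := hX.conj_mem e he x⁻¹
        rwa [inv_inv] at this
      have e1 : x = (e * x) * (x⁻¹ * e * x)⁻¹ := by group
      rw [e1]
      exact (T ⊔ D).mul_mem h1 ((T ⊔ D).inv_mem h3)
  have hXe : X = D ⊔ T := by
    rw [sup_comm]
    exact le_antisymm hXT (sup_le hTX inf_le_left)
  have hTs : Group.IsSolvable T := by
    have := hT2.isNilpotent
    infer_instance
  have hDs : Group.IsSolvable D :=
    Group.isSolvable_of_isSolvable_injective (f := Subgroup.inclusion (inf_le_right : D ≤ _))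
      (Subgroup.inclusion_injective _)
  have h9 : Group.IsSolvable ↥(D ⊔ T) :=
    SignalizersComponents.CoprimeBasic.isSolvable_sup
      (show T ≤ Subgroup.normalizer (D : Set H) by rw [Subgroup.normalizer_eq_top D]; exact le_top) hDs hTs
  exact Group.isSolvable_of_isSolvable_injective (f := (MulEquiv.subgroupCongr hXe).toMonoidHom)
    (MulEquiv.subgroupCongr hXe).injective

omit hX in
/-- `RP p H` from a gate system. -/
theorem rp_of_gsys (hG : GSys Pa d) (hp2 : p ≠ 2) (a : Sylow p H)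
    (hN : Group.IsSolvable ↥(Subgroup.normalizer (a : Set H))) : RP p H := by
  intro V hV h
  exact isSolvable_of_gsys hG hp2 h a hN

omit hX in
/-- `RP r H` from a split (B, N)-pair. -/
theorem rp_of_bn {r : ℕ} [Fact r.Prime] {U : Subgroup H} (P : Cfsg.BNPair H) (hr2 : r ≠ 2)
    (hBs : Group.IsSolvable P.B) (hU : IsPGroup r U) (hUB : U ≤ P.B)
    (hBU : P.B ≤ Subgroup.normalizer (U : Set H)) (hBT : P.B ≤ U ⊔ (P.B ⊓ P.N)) : RP r H := by
  intro V hV h
  exact BnRP.isSolvable_of_bn P hr2 hBs hU hUB hBU hBT V h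

end Cfsg.Agent.PreUniq.GatesRP
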